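import Groth.Agent.HenselLib.EtaleLift

/-! Étale algebras over a localization come from étale algebras. -/

set_option autoImplicit false
set_option linter.style.haveILetI false
set_option backward.isDefEq.respectTransparency false
universe u

open TensorProduct

namespace Groth.Agent.EtDescLocLib

theorem exists_lift_of_quotient {R : Type u} [CommRing R] (K : Ideal R) (T : Type u) [CommRing T] [Algebra (R ⧸ K) T]
    [Algebra.Etale (R ⧸ K) T] :
    ∃ (A' : Type u) (_ : CommRing A') (_ : Algebra R A') (_ : Algebra.Etale R A') (φ : A' →+* T),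
      Function.Surjective φ ∧ RingHom.ker φ = K.map (algebraMap R A') ∧
        ∀ r, φ (algebraMap R A' r) = algebraMap (R ⧸ K) T (Ideal.Quotient.mk K r) := by
  letI : Algebra R T := ((algebraMap (R ⧸ K) T).comp (Ideal.Quotient.mk K)).toAlgebra
  haveI : IsScalarTower R (R ⧸ K) T := IsScalarTower.of_algebraMap_eq fun _ => rfl
  obtain ⟨A', _, _, hA', φ, hφ, hker⟩ := HenselLib.exists_etale_lift (A := R) K T
  exact ⟨A', inferInstance, inferInstance, hA', φ.toRingHom, hφ, hker, φ.commutes⟩

set_option synthInstance.maxHeartbeats 100000 in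
set_option maxHeartbeats 1000000 in
theorem exists_etale {A B B' : Type u} [CommRing A] [CommRing B] [Algebra A B] (S : Submonoid A) [IsLocalization S B]
    [CommRing B'] [Algebra B B'] [Algebra A B'] [IsScalarTower A B B'] [Algebra.Etale B B'] :
    ∃ (A' : Type u) (_ : CommRing A') (_ : Algebra A A') (_ : Algebra.Etale A A') (φ : A' →ₐ[A] B'),
      ∀ θ : A' →ₐ[A] B, Nonempty (B' →ₐ[B] B) := by
  classical
  obtain ⟨A₀, B₀, _, _, hfg, hB₀, ⟨e⟩⟩ := Algebra.Etale.exists_subalgebra_fg A B B'
  obtain ⟨G, hG⟩ := hfg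
  obtain ⟨⟨s, hs⟩, hint⟩ := IsLocalization.exist_integer_multiples_of_finset S G
  let As := Localization.Away s
  have hsu : IsUnit (algebraMap A B s) := IsLocalization.map_units B ⟨s, hs⟩
  let g : As →ₐ[A] B := IsLocalization.liftAlgHom (M := Submonoid.powers s) (S := As) (f := Algebra.ofId A B)
    (fun y => by
      obtain ⟨_, n, rfl⟩ := y
      rw [map_pow]; exact hsu.pow n)
  have hle : A₀ ≤ g.range := by
    rw [← hG, Algebra.adjoin_le_iff]
    intro x hx
    obtain ⟨a, ha⟩ := hint x hx
    refine ⟨algebraMap A As a * IsLocalization.Away.invSelf s, hsu.mul_left_cancel ?_⟩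
    show algebraMap A B s * g _ = algebraMap A B s * x
    rw [← g.commutes, ← map_mul, mul_left_comm, IsLocalization.Away.mul_invSelf, mul_one, g.commutes, ha, Algebra.smul_def]
    rw [g.commutes]
  let K := RingHom.ker g.toRingHom
  let C := As ⧸ K
  let gb : C →ₐ[A] B := Ideal.Quotient.liftₐ K g fun a ha => ha
  have hgb : Function.Injective gb := RingHom.kerLift_injective g.toRingHom
  have hmem : ∀ a : A₀, (a : B) ∈ gb.range := fun a => by
    obtain ⟨x, hx⟩ := hle a.2
    exact ⟨Ideal.Quotient.mk K x, hx⟩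
  let γ : A₀ →+* C :=
    { toFun := fun a => (hmem a).choose
      map_one' := hgb (by rw [map_one]; exact (hmem 1).choose_spec)
      map_mul' := fun a b => hgb ((hmem (a * b)).choose_spec.trans (by
        rw [map_mul, show gb _ = _ from (hmem a).choose_spec, show gb _ = _ from (hmem b).choose_spec]; rfl))
      map_zero' := hgb (by rw [map_zero]; exact (hmem 0).choose_spec)
      map_add' := fun a b => hgb ((hmem (a + b)).choose_spec.trans (by
        rw [map_add, show gb _ = _ from (hmem a).choose_spec, show gb _ = _ from (hmem b).choose_spec]; rfl)) }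
  have hγ : ∀ a : A₀, gb (γ a) = a := fun a => (hmem a).choose_spec
  letI : Algebra A₀ C := γ.toAlgebra
  haveI : IsScalarTower A A₀ C := IsScalarTower.of_algebraMap_eq fun r => hgb ((gb.commutes r).trans (hγ (algebraMap A A₀ r)).symm)
  let T : Type u := C ⊗[A₀] B₀
  obtain ⟨A', _, _, hA', φ, hφ, hker, hφc⟩ := exists_lift_of_quotient K T
  letI : Algebra A A' := ((algebraMap As A').comp (algebraMap A As)).toAlgebra
  haveI : IsScalarTower A As A' := IsScalarTower.of_algebraMap_eq fun _ => rfl
  haveI : Algebra.Etale A As := Algebra.Etale.of_isLocalizationAway s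
  haveI : Algebra.Etale A A' := Algebra.Etale.comp A As A'
  letI : Algebra A₀ B' := ((algebraMap B B').comp A₀.val.toRingHom).toAlgebra
  let ψ : T →+* B' := (e.symm.toAlgHom.toRingHom).comp
    (Algebra.TensorProduct.lift ((Algebra.TensorProduct.includeLeft : B →ₐ[A₀] B ⊗[A₀] B₀).comp
      ({ gb.toRingHom with commutes' := hγ } : C →ₐ[A₀] B))
      (Algebra.TensorProduct.includeRight : B₀ →ₐ[A₀] B ⊗[A₀] B₀) fun _ _ => Commute.all _ _).toRingHom
  refine ⟨A', inferInstance, inferInstance, inferInstance,
    { ψ.comp φ with commutes' := fun r => ?_ }, fun θ => ?_⟩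
  · show ψ (φ (algebraMap As A' (algebraMap A As r))) = algebraMap A B' r
    rw [hφc]
    show e.symm ((Algebra.TensorProduct.lift _ _ _) ((Ideal.Quotient.mk K (algebraMap A As r)) ⊗ₜ[A₀] (1 : B₀))) = _
    rw [Algebra.TensorProduct.lift_tmul, map_one, mul_one]
    show e.symm ((gb (Ideal.Quotient.mk K (algebraMap A As r))) ⊗ₜ[A₀] (1 : B₀)) = _
    rw [show gb (Ideal.Quotient.mk K (algebraMap A As r)) = algebraMap A B r from g.commutes r]
    exact (e.symm.commutes (algebraMap A B r)).trans (IsScalarTower.algebraMap_apply A B B' r).symm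
  · have hθ : θ.comp (IsScalarTower.toAlgHom A As A') = g :=
      haveI := IsLocalization.algHom_subsingleton (S := As) (P := B) (Submonoid.powers s)
      Subsingleton.elim _ _
    have hk : RingHom.ker φ ≤ RingHom.ker θ.toRingHom := by
      rw [hker, Ideal.map_le_iff_le_comap]
      intro x hx
      show θ (algebraMap As A' x) = 0
      rw [show θ (algebraMap As A' x) = g x from DFunLike.congr_fun hθ x]
      exact hx
    let ρ : T →+* B := RingHom.liftOfSurjective φ hφ ⟨θ.toRingHom, hk⟩
    have hρ : ∀ z, ρ (φ z) = θ z := RingHom.liftOfSurjective_comp_apply φ hφ ⟨θ.toRingHom, hk⟩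
    let θ₀ : B₀ →ₐ[A₀] B :=
      { ρ.comp (Algebra.TensorProduct.includeRight : B₀ →ₐ[A₀] T).toRingHom with
        commutes' := fun a => by
          show ρ ((Algebra.TensorProduct.includeRight : B₀ →ₐ[A₀] T) (algebraMap A₀ B₀ a)) = _
          rw [AlgHom.commutes, IsScalarTower.algebraMap_apply A₀ C T]
          obtain ⟨x, hx⟩ := Ideal.Quotient.mk_surjective (γ a)
          rw [show algebraMap A₀ C a = γ a from rfl, ← hx,
            show algebraMap C T (Ideal.Quotient.mk K x) = φ (algebraMap As A' x) from (hφc x).symm, hρ,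
            show θ (algebraMap As A' x) = g x from DFunLike.congr_fun hθ x]
          show g x = (a : B)
          rw [← hγ a, ← hx]; rfl }
    exact ⟨(Algebra.TensorProduct.lift (Algebra.ofId B B) θ₀ fun _ _ => Commute.all _ _).comp e.toAlgHom⟩

end Groth.Agent.EtDescLocLib
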